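import Cfsg.Agent.H5.Piv.PSL
import Cfsg.Agent.H208.QuadOrth
import Cfsg.Agent.AutOrth.Main

/-!
# The pivot lemma: orthogonal groups in dimension at least seven (helper5)
-/

set_option autoImplicit false
set_option linter.unusedSectionVars false

namespace Cfsg.Agent.H5.Piv.Orth

open Cfsg QuadraticMap Cfsg.Agent.LieClassical.OrthCore Cfsg.Agent.LieClassical.OrthTrans
  Cfsg.Agent.LieClassical.OrthSimple Cfsg.Agent.ClassicalGeometry.OrthAutBasic
  Cfsg.Agent.ClassicalGeometry.OrthAutRoot Cfsg.Agent.ClassicalGeometry.OrthAutSylow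
open scoped commutatorElement Pointwise
open Cfsg.Agent.H5.Piv
open Cfsg.Agent.H208.QuadOrth (weyl comm_T exists_center)
open Cfsg.Agent.LieClassical.QuadForms (oddForm minusForm plusForm coe_oddForm coe_minusForm coe_plusForm)
open Cfsg.Agent.AutOrth.Main (pe good_odd good_minus good_plus)

variable {F V : Type*} [Field F] [AddCommGroup V] [Module F V] {Q : QuadraticForm F V}

theorem piv_T [Finite (PE Q)] {p : ℕ} [Fact p.Prime] [CharP F p] {x y u v z w : V} (hf : Frame Q x y u v z w) (c : F)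
    (h1 : tau Q x (c • u) ≠ 1) : Piv p (tau Q x (c • u)) := by
  have hvu : Hyp Q v u := ⟨hf.h2.right, hf.h2.left, by rw [polar_comm]; exact hf.h2.pair⟩
  obtain ⟨n1, n2, n3, n4, n5⟩ := weyl hf.h3 hvu (by rw [polar_comm]; exact hf.vz) (by rw [polar_comm]; exact hf.uz)
    (by rw [polar_comm]; exact hf.vw) (by rw [polar_comm]; exact hf.uw)
  set n := T Q z v * T Q w u * T Q z v with hn
  have hnE : n ∈ E Q := E_mul (E_mul (T_mem_E _ _) (T_mem_E _ _)) (T_mem_E _ _)
  have hxcz : polar Q x (c • z) = 0 := by rw [polar_smul_right, hf.xz, smul_zero]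
  have hucz : polar Q u (c • z) = 0 := by rw [polar_smul_right, hf.uz, smul_zero]
  have hxcu : polar Q x (c • u) = 0 := by rw [polar_smul_right, hf.xu, smul_zero]
  have hux : polar Q u x = 0 := by rw [polar_comm]; exact hf.xu
  have hzx : polar Q z x = 0 := by rw [polar_comm]; exact hf.xz
  have hvx : polar Q v x = 0 := by rw [polar_comm]; exact hf.xv
  have hwx : polar Q w x = 0 := by rw [polar_comm]; exact hf.xw
  have hwu : polar Q w u = 0 := by rw [polar_comm]; exact hf.uw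
  have hnx : n x = x := n5 x hzx hwx hvx hux
  let π : ↥(E Q) →* PE Q := QuotientGroup.mk' (Subgroup.center ↥(E Q))
  let X : ↥(E Q) := ⟨T Q x (c • z), T_mem_E _ _⟩
  let Y : ↥(E Q) := ⟨T Q u w, T_mem_E _ _⟩
  let Z : ↥(E Q) := ⟨T Q x (c • u), T_mem_E _ _⟩
  let N : ↥(E Q) := ⟨n, hnE⟩
  have hπ : tau Q x (c • u) = π Z := rfl
  have hX : X ^ p = 1 := by
    apply Subtype.ext
    change (T Q x (c • z)) ^ p = 1
    rw [T_pow hf.h1.left hxcz, ← Nat.cast_smul_eq_nsmul F, CharP.cast_eq_zero, zero_smul, T_zero_right]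
  have hZ : Z ^ p = 1 := by
    apply Subtype.ext
    change (T Q x (c • u)) ^ p = 1
    rw [T_pow hf.h1.left hxcu, ← Nat.cast_smul_eq_nsmul F, CharP.cast_eq_zero, zero_smul, T_zero_right]
  have hXY : Z = ⁅X, Y⁆ := by
    apply Subtype.ext
    change T Q x (c • u) = ⁅T Q x (c • z), T Q u w⁆
    rw [comm_T hf.h1.left hf.h2.left hf.xu hxcz hucz hf.xw hf.uw, polar_smul_left, hf.h3.pair, smul_eq_mul, mul_one]
  have hXZ : X * Z = Z * X := by
    apply Subtype.ext
    change T Q x (c • z) * T Q x (c • u) = T Q x (c • u) * T Q x (c • z)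
    rw [T_mul hf.h1.left hxcz hxcu, T_mul hf.h1.left hxcu hxcz, add_comm]
  have hYZ : Y * Z = Z * Y := by
    apply Subtype.ext
    change T Q u w * T Q x (c • u) = T Q x (c • u) * T Q u w
    rw [← mul_inv_eq_iff_eq_mul, T_conj (T_mem_O u w), map_smul, T_fix hux hwx,
      T_fix (polar_self_of_sing hf.h2.left) hwu]
  have hNX : N * X * N⁻¹ = Z := by
    apply Subtype.ext
    change n * T Q x (c • z) * n⁻¹ = T Q x (c • u)
    rw [T_conj (E_le_O hnE), map_smul, n1, hnx]
  rw [hπ]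
  refine piv_comm (x := π X) (y := π Y) (g := π N) h1 ?_ ?_ ?_ ?_ ?_ ?_
  · rw [← map_pow, hZ, map_one]
  · rw [← map_pow, hX, map_one]
  · rw [← map_mul, hXZ, map_mul]
  · rw [← map_mul, hYZ, map_mul]
  · rw [hXY, map_commutatorElement]
  · rw [← map_inv, ← map_mul, ← map_mul, hNX]
    exact Subgroup.mem_zpowers _

/-- `PE Q`, dimension at least seven -/
theorem lp_pe [Finite F] (hB : Big Q) {p : ℕ} [Fact p.Prime] [CharP F p] : LP p (PE Q) := by
  have hfd : FiniteDimensional F V := Module.finite_of_finrank_pos (by have := hB.dim; omega)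
  have hfin : Finite V := Module.finite_of_finite F
  have hfinE : Finite (V ≃ₗ[F] V) := Finite.of_injective (fun g => (g : V → V))
    DFunLike.coe_injective
  obtain ⟨x, y, hxy⟩ := hB.good.exists_hyp
  obtain ⟨u, v, huv, hxu, hxv, hyu, hyv⟩ := hB.good.exists_hyp2 hxy
  obtain ⟨z, w, hf⟩ := exists_frame2 hB hxy huv hxu hxv hyu hyv
  obtain ⟨P1, hP1⟩ := exists_center hB hf.ln_xu p
  refine LP.of_exists P1 ?_
  intro γ hγ h1 _ hc
  obtain ⟨c, rfl⟩ := hP1 γ hγ (fun δ hδ => (hc δ hδ).symm)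
  exact piv_T (p := p) hf c h1

theorem lp_POmega {p : ℕ} [Fact p.Prime] {F : Type*} [Field F] [Finite F] [CharP F p] {ι : Type} [Fintype ι] [DecidableEq ι]
    {Q : QuadraticForm F (ι → F)} (hG : Good Q) (h7 : 7 ≤ Module.finrank F (ι → F)) : LP p (POmega F ⇑Q) := by
  have hB : Big Q := ⟨hG.nondeg, h7⟩
  exact (lp_pe hB (p := p)).congr (pe hG)

theorem two_ne {p : ℕ} [Fact p.Prime] {F : Type*} [Field F] [CharP F p] (hp2 : p ≠ 2) : (2 : F) ≠ 0 := by
  intro h
  have h1 := (CharP.cast_eq_zero_iff F p 2).1 (by exact_mod_cast h)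
  exact hp2 ((Nat.prime_dvd_prime_iff_eq (Fact.out : p.Prime) Nat.prime_two).1 h1)

theorem lp_odd {p : ℕ} [Fact p.Prime] {F : Type*} [Field F] [Finite F] [CharP F p] (hp2 : p ≠ 2) {m : ℕ} (hm : 3 ≤ m) :
    LP p (POmega F (quadFormOdd m F)) := by
  have h1 : LP p (POmega F ⇑(oddForm m F)) := lp_POmega (good_odd (by omega) (two_ne (p := p) hp2)) (by simp; omega)
  rwa [coe_oddForm] at h1

theorem lp_plus {p : ℕ} [Fact p.Prime] {F : Type*} [Field F] [Finite F] [CharP F p] {m : ℕ} (hm : 4 ≤ m) :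
    LP p (POmega F (quadFormPlus m F)) := by
  have h1 : LP p (POmega F ⇑(plusForm m F)) := lp_POmega (good_plus (by omega)) (by simp; omega)
  rwa [coe_plusForm] at h1

end Cfsg.Agent.H5.Piv.Orth
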